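import Cfsg.Agent.Lib.Chevalley.InvolCert.E6.Check0
import Cfsg.Agent.Lib.Chevalley.InvolCert.E6.Check1

/-! Every node of the certificate of type E6 is correct. -/

set_option autoImplicit false

namespace Cfsg.Agent.Chevalley.InvolCert.E6

theorem table_ok : ∀ i < 341, nodeChk sys reps table i = true := fun i hi =>
  if h : i < 256 then rangeChk_spec range0_ok (by omega) (by omega) else
  rangeChk_spec range1_ok (by omega) (by omega)

theorem top_st : (table.get 340).st = 3148244321913096809130 := by decide +kernel

end Cfsg.Agent.Chevalley.InvolCert.E6
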