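import Cfsg.Agent.Lib.Chevalley.InvolCert.Chain
import Cfsg.Agent.Lib.Chevalley.Types.E6

/-! The commutator table of type E6 and the products linking the orthogonal sets. -/

set_option autoImplicit false
set_option maxHeartbeats 2000000
set_option maxRecDepth 100000

namespace Cfsg.Agent.Chevalley.InvolCert.E6

open Cfsg.Lie Cfsg.Agent.Chevalley

/-- The table. -/
def sys : Sys where
  D := chevE6
  base := 36
  N := 36
  rk := 6
  nr := 72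
  car := [[0,0,0,0,0,0,-1,-1,-1,-1,0,0,0,0,-1,-1,-1,-1,-1,-1,2,1,1,1,1,1,1,1,1,1,1,0,0,0,0,0],[0,0,0,-1,-1,-1,0,-1,-1,-1,2,1,1,1,1,1,1,0,0,0,0,0,-1,-1,-1,1,1,1,0,0,0,0,0,0,-1,1],[0,0,0,-1,-1,-1,2,1,1,1,0,-1,-1,-1,1,1,1,0,0,0,-1,1,0,0,0,0,0,0,-1,-1,-1,1,1,1,0,0],[0,-1,-1,2,1,1,-1,1,0,0,-1,1,0,0,0,-1,-1,1,1,0,0,-1,1,0,0,0,-1,-1,1,1,0,0,0,-1,1,0],[-1,2,1,-1,1,0,0,-1,1,0,0,-1,1,0,-1,1,0,0,-1,1,0,0,-1,1,0,-1,1,0,0,-1,1,0,-1,1,0,0],[2,-1,1,0,-1,1,0,0,-1,1,0,0,-1,1,0,-1,1,-1,1,0,0,0,0,-1,1,0,-1,1,-1,1,0,-1,1,0,0,0]]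
  ref := [[0,1,2,3,4,16,17,18,19,20,21,26,27,28,29,56,5,6,7,8,9,10,22,23,24,25,11,12,13,14,30,31,32,33,34,35,36,37,38,39,40,41,57,58,59,60,46,47,48,49,61,62,63,64,65,66,15,42,43,44,45,50,51,52,53,54,55,67,68,69,70,71],[1,0,2,3,4,5,6,7,11,12,13,8,9,10,14,15,16,17,18,26,27,28,30,31,32,46,19,20,21,29,22,23,24,33,34,35,36,37,38,47,48,49,42,50,51,52,25,39,40,41,43,44,45,53,54,55,56,57,61,62,63,58,59,60,64,65,66,67,68,69,71,70],[0,1,5,6,7,2,3,4,8,9,10,11,12,13,15,14,16,17,18,22,23,24,19,20,21,25,30,31,32,42,26,27,28,33,34,35,36,37,38,43,44,45,29,39,40,41,46,50,51,52,47,48,49,53,54,55,57,56,58,59,60,61,62,63,67,68,69,64,65,66,70,71],[0,2,1,3,4,5,8,9,6,7,10,11,12,14,13,15,16,19,20,17,18,21,22,23,25,24,26,27,29,28,33,34,39,30,31,35,36,40,41,32,37,38,43,42,44,45,47,46,48,49,50,53,54,51,52,55,56,58,57,59,60,61,64,65,62,63,66,67,68,70,69,71],[0,1,3,2,4,6,5,7,8,10,9,11,13,12,14,15,17,16,18,19,21,20,22,24,23,25,26,28,27,29,30,32,31,35,37,33,38,34,36,40,39,41,42,44,43,45,46,48,47,49,51,50,52,53,55,54,56,57,59,58,60,62,61,63,64,66,65,67,69,68,70,71],[0,1,2,4,3,5,7,6,9,8,10,12,11,13,14,15,16,18,17,20,19,21,23,22,24,25,27,26,28,29,31,30,32,34,33,36,35,38,37,39,41,40,42,43,45,44,46,47,49,48,50,52,51,54,53,55,56,57,58,60,59,61,63,62,65,64,66,68,67,69,70,71]]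
  mask := 3282324802658039130595822696558442490970900713020500525758434321704315482306075052183090422957132033254374149046249918116723110041602097204454966818453187428526011501463158084512105341233782952720249078913265996050
  tbl := [
    [[],[(2,1,1)],[],[],[(5,1,1)],[],[],[],[(9,1,1)],[],[],[],[(13,1,1)],[],[],[(16,1,1)],[],[(18,1,1)],[],[],[],[],[],[(24,1,1)],[],[],[(27,1,1)],[],[(29,1,1)],[],[],[(32,1,1)],[],[],[],[]],
    [[],[],[],[(4,1,1)],[],[],[],[(8,1,1)],[],[],[],[(12,1,1)],[],[],[(15,1,1)],[],[],[],[(19,1,1)],[],[],[],[(23,1,1)],[],[],[(26,1,1)],[],[],[],[(30,1,1)],[],[],[(33,1,1)],[],[],[]],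
    [[],[],[],[(5,1,1)],[],[],[],[(9,1,1)],[],[],[],[(13,1,1)],[],[],[(16,1,1)],[],[],[(19,1,1)],[],[],[],[],[(24,1,1)],[],[],[(27,1,1)],[],[],[(30,1,1)],[],[],[(33,1,1)],[],[],[],[]],
    [[],[],[],[],[],[],[(7,1,1)],[],[],[],[(11,1,1)],[],[],[],[],[(17,1,1)],[(18,1,1)],[],[],[],[],[(22,1,1)],[],[],[],[],[(28,1,1)],[(29,1,1)],[],[],[],[],[],[(34,1,1)],[],[]],
    [[],[],[],[],[],[],[(8,1,1)],[],[],[],[(12,1,1)],[],[],[],[(17,1,1)],[],[(19,1,1)],[],[],[],[],[(23,1,1)],[],[],[],[(28,1,1)],[],[(30,1,1)],[],[],[],[],[(34,1,1)],[],[],[]],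
    [[],[],[],[],[],[],[(9,1,1)],[],[],[],[(13,1,1)],[],[],[],[(18,1,1)],[(19,1,1)],[],[],[],[],[],[(24,1,1)],[],[],[],[(29,1,1)],[(30,1,1)],[],[],[],[],[(34,1,1)],[],[],[],[]],
    [[],[],[],[],[],[],[],[],[],[],[],[(14,1,1)],[(15,1,1)],[(16,1,1)],[],[],[],[],[],[],[(21,1,1)],[],[],[],[],[],[],[],[(31,1,1)],[(32,1,1)],[(33,1,1)],[],[],[],[],[]],
    [[],[],[],[],[],[],[],[],[],[],[(14,1,1)],[],[(17,1,1)],[(18,1,1)],[],[],[],[],[],[],[(22,1,1)],[],[],[],[],[],[(31,1,1)],[(32,1,1)],[],[],[(34,1,1)],[],[],[],[],[]],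
    [[],[],[],[],[],[],[],[],[],[],[(15,1,1)],[(17,1,1)],[],[(19,1,1)],[],[],[],[],[],[],[(23,1,1)],[],[],[],[],[(31,1,1)],[],[(33,1,1)],[],[(34,1,1)],[],[],[],[],[],[]],
    [[],[],[],[],[],[],[],[],[],[],[(16,1,1)],[(18,1,1)],[(19,1,1)],[],[],[],[],[],[],[],[(24,1,1)],[],[],[],[],[(32,1,1)],[(33,1,1)],[],[(34,1,1)],[],[],[],[],[],[],[]],
    [[],[],[],[],[],[],[],[],[],[],[],[],[],[],[],[],[],[],[],[],[],[],[(25,1,1)],[(26,1,1)],[(27,1,1)],[],[],[],[],[],[],[],[],[],[(35,1,1)],[]],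
    [[],[],[],[],[],[],[],[],[],[],[],[],[],[],[],[],[],[],[],[],[],[(25,1,1)],[],[(28,1,1)],[(29,1,1)],[],[],[],[],[],[],[],[],[(35,1,1)],[],[]],
    [[],[],[],[],[],[],[],[],[],[],[],[],[],[],[],[],[],[],[],[],[],[(26,1,1)],[(28,1,1)],[],[(30,1,1)],[],[],[],[],[],[],[],[(35,1,1)],[],[],[]],
    [[],[],[],[],[],[],[],[],[],[],[],[],[],[],[],[],[],[],[],[],[],[(27,1,1)],[(29,1,1)],[(30,1,1)],[],[],[],[],[],[],[],[(35,1,1)],[],[],[],[]],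
    [[],[],[],[],[],[],[],[],[],[],[],[],[],[],[],[],[],[],[],[],[(25,1,1)],[],[],[(31,1,1)],[(32,1,1)],[],[],[],[],[],[(35,1,1)],[],[],[],[],[]],
    [[],[],[],[],[],[],[],[],[],[],[],[],[],[],[],[],[],[],[],[],[(26,1,1)],[],[(31,1,1)],[],[(33,1,1)],[],[],[],[],[(35,1,1)],[],[],[],[],[],[]],
    [[],[],[],[],[],[],[],[],[],[],[],[],[],[],[],[],[],[],[],[],[(27,1,1)],[],[(32,1,1)],[(33,1,1)],[],[],[],[],[(35,1,1)],[],[],[],[],[],[],[]],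
    [[],[],[],[],[],[],[],[],[],[],[],[],[],[],[],[],[],[],[],[],[(28,1,1)],[(31,1,1)],[],[],[(34,1,1)],[],[],[(35,1,1)],[],[],[],[],[],[],[],[]],
    [[],[],[],[],[],[],[],[],[],[],[],[],[],[],[],[],[],[],[],[],[(29,1,1)],[(32,1,1)],[],[(34,1,1)],[],[],[(35,1,1)],[],[],[],[],[],[],[],[],[]],
    [[],[],[],[],[],[],[],[],[],[],[],[],[],[],[],[],[],[],[],[],[(30,1,1)],[(33,1,1)],[(34,1,1)],[],[],[(35,1,1)],[],[],[],[],[],[],[],[],[],[]],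
    [[],[],[],[],[],[],[],[],[],[],[],[],[],[],[],[],[],[],[],[],[],[],[],[],[],[],[],[],[],[],[],[],[],[],[],[]],
    [[],[],[],[],[],[],[],[],[],[],[],[],[],[],[],[],[],[],[],[],[],[],[],[],[],[],[],[],[],[],[],[],[],[],[],[]],
    [[],[],[],[],[],[],[],[],[],[],[],[],[],[],[],[],[],[],[],[],[],[],[],[],[],[],[],[],[],[],[],[],[],[],[],[]],
    [[],[],[],[],[],[],[],[],[],[],[],[],[],[],[],[],[],[],[],[],[],[],[],[],[],[],[],[],[],[],[],[],[],[],[],[]],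
    [[],[],[],[],[],[],[],[],[],[],[],[],[],[],[],[],[],[],[],[],[],[],[],[],[],[],[],[],[],[],[],[],[],[],[],[]],
    [[],[],[],[],[],[],[],[],[],[],[],[],[],[],[],[],[],[],[],[],[],[],[],[],[],[],[],[],[],[],[],[],[],[],[],[]],
    [[],[],[],[],[],[],[],[],[],[],[],[],[],[],[],[],[],[],[],[],[],[],[],[],[],[],[],[],[],[],[],[],[],[],[],[]],
    [[],[],[],[],[],[],[],[],[],[],[],[],[],[],[],[],[],[],[],[],[],[],[],[],[],[],[],[],[],[],[],[],[],[],[],[]],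
    [[],[],[],[],[],[],[],[],[],[],[],[],[],[],[],[],[],[],[],[],[],[],[],[],[],[],[],[],[],[],[],[],[],[],[],[]],
    [[],[],[],[],[],[],[],[],[],[],[],[],[],[],[],[],[],[],[],[],[],[],[],[],[],[],[],[],[],[],[],[],[],[],[],[]],
    [[],[],[],[],[],[],[],[],[],[],[],[],[],[],[],[],[],[],[],[],[],[],[],[],[],[],[],[],[],[],[],[],[],[],[],[]],
    [[],[],[],[],[],[],[],[],[],[],[],[],[],[],[],[],[],[],[],[],[],[],[],[],[],[],[],[],[],[],[],[],[],[],[],[]],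
    [[],[],[],[],[],[],[],[],[],[],[],[],[],[],[],[],[],[],[],[],[],[],[],[],[],[],[],[],[],[],[],[],[],[],[],[]],
    [[],[],[],[],[],[],[],[],[],[],[],[],[],[],[],[],[],[],[],[],[],[],[],[],[],[],[],[],[],[],[],[],[],[],[],[]],
    [[],[],[],[],[],[],[],[],[],[],[],[],[],[],[],[],[],[],[],[],[],[],[],[],[],[],[],[],[],[],[],[],[],[],[],[]],
    [[],[],[],[],[],[],[],[],[],[],[],[],[],[],[],[],[],[],[],[],[],[],[],[],[],[],[],[],[],[],[],[],[],[],[],[]]]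

theorem tbl_ok : sys.chkTbl = true := by decide +kernel

/-- The sets of the certificate. -/
def reps : List (List ℕ) := [[35], [32,30], [19,29,31], [3,8,24,35]]

/-- The class representatives. -/
def classes : List (List ℕ) := [[35], [32,30], [19,29,31]]

/-- The products linking the sets to the classes. -/
def chains : List (List Step × ℕ) := [
  ([], 0),
  ([], 1),
  ([], 2),
  ([.x 11 [3,8,17,24,29,35], .x 8 [3,8,17,24,29,34,35], .x 15 [3,8,24,29,33,34], .x 27 [3,8,24], .w [0,2,0,3,2,0,4,3,2,5,4,3,1] [19,29,31]], 2)]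

theorem chains_ok : chainsChk sys reps classes chains = true := by decide +kernel

end Cfsg.Agent.Chevalley.InvolCert.E6
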