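import Cfsg.Agent.Lib.Chevalley.InvolCert.Rank
import Cfsg.Agent.Lib.Chevalley.InvolCert.E6.Sys

/-! The ranks of the displacements of the class representatives of type E6. -/

set_option autoImplicit false
set_option maxRecDepth 100000
set_option maxHeartbeats 2000000

namespace Cfsg.Agent.Chevalley.InvolCert.E6

theorem rank0_ok : rankChk Data.E6.tab.col 78 [71]
    [([1],[77],77),([1,6],[0,3,5],5),([7],[52],52),([8],[53],53),([9],[54],54),([10],[55],55),([11],[56],56),([12],[57],57),([13],[58],58),([14],[59],59),([15],[60],60),([16],[61],61),([22],[67],67),([23],[68],68),([24],[69],69),([25],[70],70),([26],[71],71),([27],[72],72),([28],[73],73),([29],[74],74),([30],[75],75),([31],[76],76)]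
    [[],[0],[],[],[],[],[0,1],[2],[3],[4],[5],[6],[7],[8],[9],[10],[11],[],[],[],[],[],[12],[13],[14],[15],[16],[17],[18],[19],[20],[21],[],[],[],[],[],[],[],[],[],[],[],[],[],[],[],[],[],[],[],[],[],[],[],[],[],[],[],[],[],[],[],[],[],[],[],[],[],[],[],[],[],[],[],[],[],[]] = true := by decide +kernel

theorem rank1_ok : rankChk Data.E6.tab.col 78 [68,66]
    [([0],[72],72),([0,2],[74],74),([27],[66],66),([34],[69],69),([35],[71],71),([0,11],[0,1,2,5],5),([10],[42],42),([2,9,11],[2,4],4),([43],[75],75),([13],[44],44),([46],[76],76),([15],[47],47),([16],[51],51),([54],[77],77),([18],[55],55),([19],[58],58),([20],[60],60),([21],[61],61),([22],[62],62),([23],[63],63),([25],[64],64),([6,27],[27,29],29),([28],[65],65),([32],[67],67),([7,34],[34,37],37),([8,35],[35,40],40),([36],[68],68),([39],[70],70),([41],[73],73),([12,43],[43,48],48),([14,46],[46,49],49),([17,54],[54,56],56)]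
    [[0],[],[0,1],[],[0,1],[1],[2,21],[3,24],[4,25],[1,5,7],[6],[0,5],[8,29],[9],[10,30],[11],[12],[13,31],[14],[15],[16],[17],[18],[19],[],[20],[],[2],[22],[2],[],[],[23],[],[3],[4],[26],[3],[],[27],[4],[28],[],[8],[],[],[10],[],[8],[10],[],[],[],[],[13],[],[13],[],[],[],[],[],[],[],[],[],[],[],[],[],[],[],[],[],[],[],[],[]] = true := by decide +kernel

theorem rank2_ok : rankChk Data.E6.tab.col 78 [55,65,67]
    [([3],[71],71),([2,3],[73],73),([0,3],[61],61),([16,26,28],[76],76),([19,33,36],[77],77),([20],[59],59),([35],[70],70),([0,12,22],[0,4],4),([21],[60],60),([2,10,12],[2,5],5),([42],[74],74),([14],[45],45),([15],[49],49),([6,16],[16,26,28,64],64),([17],[53],53),([18],[56],56),([7,19],[19,33,36,67],67),([8,20],[20,39],39),([11,21],[21,40],40),([0,2,3,10,12,22],[1],1),([43],[72],72),([44],[75],75),([25],[46],46),([6,26],[16,26,28,50],50),([27],[65],65),([6,28],[16,26,28,47],47),([29],[51],51),([30],[66],66),([32],[54],54),([7,33],[19,33,36,57],57),([34],[68],68),([9,35],[35,41],41),([7,36],[19,33,36,55],55),([37],[58],58),([38],[69],69),([13,42],[42,48],48),([23,43],[43,62],62),([24,44],[44,63],63)]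
    [[0,2],[],[0,1],[0],[0,2],[0,1],[3,13,23,25],[4,16,29,32],[5,17],[6,31],[1,7,19],[8,18],[0,7,9,19],[10,35],[11],[12],[3,23,25],[14],[15],[4,29,32],[5],[8],[2,9,19],[20,36],[21,37],[22],[3,13,25],[24],[3,13,23],[26],[27],[],[28],[4,16,32],[30],[6],[4,16,29],[33],[34],[5],[8],[6],[10],[20],[21],[],[],[3],[10],[],[3],[],[],[],[],[4],[],[4],[],[],[],[],[20],[21],[3],[],[],[4],[],[],[],[],[],[],[],[],[],[]] = true := by decide +kernel

end Cfsg.Agent.Chevalley.InvolCert.E6
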