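import Cfsg.Agent.Lib.Chevalley.InvolCert.Final
import Cfsg.Agent.Lib.Chevalley.InvolCert.E6.All
import Cfsg.Agent.Lib.Chevalley.InvolCert.E6.Ranks
import Cfsg.Agent.Lib.Chevalley.Types.OrderE6

/-! The classes of involutions of type E6 in characteristic two. -/

set_option autoImplicit false
set_option maxRecDepth 100000

namespace Cfsg.Agent.Chevalley.InvolCert.E6

open Cfsg.Lie Cfsg.Agent.Chevalley Cfsg.Agent.Chevalley.Group

variable {K : Type*} [Field K] [CharP K 2]

theorem classes_eq : classes = [[35], [32,30], [19,29,31]] := by decide +kernel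

/-- The representatives, in the group. -/
noncomputable abbrev y (S : List ℕ) : GL chevE6.Idx K := rep sys Types.E6.certified S

theorem sq0 : same sys (oneW [35] ++ oneW [35]) [] = true := by decide +kernel

theorem rank0 : (disp (y (K := K) [35])).rank = 22 :=
  rank_rep sys Types.E6.certified tbl_ok (n := 78) (S := [35]) rank0_ok (by decide +kernel)

theorem mem0 : y (K := K) [35] ∈ chevE6.group K ∧ orderOf (y (K := K) [35]) = 2 :=
  ⟨rep_mem sys Types.E6.certified tbl_ok (by decide),
    order_two sys Types.E6.certified tbl_ok sq0 rank0 (by norm_num)⟩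

theorem coe0 : ((y (K := K) [35] : GL chevE6.Idx K) : Matrix chevE6.Idx chevE6.Idx K) =
    chevE6.x K 71 1 := by
  rw [y, rep_eq sys Types.E6.certified tbl_ok]
  show (((xg Types.E6.certified 71 (1 : K) * 1) : GL chevE6.Idx K) : Matrix chevE6.Idx chevE6.Idx K) = _
  simp [mul_assoc]

theorem sq1 : same sys (oneW [32,30] ++ oneW [32,30]) [] = true := by decide +kernel

theorem rank1 : (disp (y (K := K) [32,30])).rank = 32 :=
  rank_rep sys Types.E6.certified tbl_ok (n := 78) (S := [32,30]) rank1_ok (by decide +kernel)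

theorem mem1 : y (K := K) [32,30] ∈ chevE6.group K ∧ orderOf (y (K := K) [32,30]) = 2 :=
  ⟨rep_mem sys Types.E6.certified tbl_ok (by decide),
    order_two sys Types.E6.certified tbl_ok sq1 rank1 (by norm_num)⟩

theorem coe1 : ((y (K := K) [32,30] : GL chevE6.Idx K) : Matrix chevE6.Idx chevE6.Idx K) =
    chevE6.x K 68 1 * chevE6.x K 66 1 := by
  rw [y, rep_eq sys Types.E6.certified tbl_ok]
  show (((xg Types.E6.certified 68 (1 : K) * (xg Types.E6.certified 66 (1 : K) * 1)) : GL chevE6.Idx K) : Matrix chevE6.Idx chevE6.Idx K) = _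
  simp [mul_assoc]

theorem sq2 : same sys (oneW [19,29,31] ++ oneW [19,29,31]) [] = true := by decide +kernel

theorem rank2 : (disp (y (K := K) [19,29,31])).rank = 38 :=
  rank_rep sys Types.E6.certified tbl_ok (n := 78) (S := [19,29,31]) rank2_ok (by decide +kernel)

theorem mem2 : y (K := K) [19,29,31] ∈ chevE6.group K ∧ orderOf (y (K := K) [19,29,31]) = 2 :=
  ⟨rep_mem sys Types.E6.certified tbl_ok (by decide),
    order_two sys Types.E6.certified tbl_ok sq2 rank2 (by norm_num)⟩

theorem coe2 : ((y (K := K) [19,29,31] : GL chevE6.Idx K) : Matrix chevE6.Idx chevE6.Idx K) =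
    chevE6.x K 55 1 * chevE6.x K 65 1 * chevE6.x K 67 1 := by
  rw [y, rep_eq sys Types.E6.certified tbl_ok]
  show (((xg Types.E6.certified 55 (1 : K) * (xg Types.E6.certified 65 (1 : K) * (xg Types.E6.certified 67 (1 : K) * 1))) : GL chevE6.Idx K) : Matrix chevE6.Idx chevE6.Idx K) = _
  simp [mul_assoc]

theorem top_free : ∀ i < sys.N, fl 3148244321913096809130 i = 2 := by decide +kernel

theorem classify [Fintype K] {g : GL chevE6.Idx K} (hg : g ∈ chevE6.group K) (h2 : orderOf g = 2) :
    ∃ S ∈ classes, Cj sys g (y (K := K) S) :=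
  exists_rep sys Types.E6.certified tbl_ok table_ok top_st (by norm_num) top_free chains_ok
    (exists_conj_U sys Types.E6.certified tbl_ok (Types.OrderE6.card_group K) (by decide)) hg h2

end Cfsg.Agent.Chevalley.InvolCert.E6
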